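import Groth.Agent.AssLib.Points
import Groth.Agent.SchDense.Unit
import Mathlib

/-!
# Scheme-theoretic dominance of flat morphisms through associated points
-/

set_option autoImplicit false
set_option backward.isDefEq.respectTransparency false
set_option backward.isDefEq.respectTransparency.types false
set_option linter.style.haveILetI false

universe u

open CategoryTheory AlgebraicGeometry TopologicalSpace Opposite
open Groth.Agent.QC Groth.Agent.WeakAssLib Groth.Agent.AssLib

namespace Groth.Agent.SchDomRad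

variable {X Y : Scheme.{u}}

theorem flat_of_comp_etale {Z : Scheme.{u}} (u : X ⟶ Y) (g : Y ⟶ Z) [Etale g] [Flat (u ≫ g)] : Flat u := by
  haveI : Flat (Limits.pullback.diagonal g) := inferInstance
  have e : u = Limits.pullback.lift (𝟙 X) u (Category.id_comp _) ≫ Limits.pullback.snd (u ≫ g) g := by
    rw [Limits.pullback.lift_snd]
  rw [e]
  haveI : Flat (Limits.pullback.lift (𝟙 X) u (Category.id_comp _) : X ⟶ Limits.pullback (u ≫ g) g) :=
    MorphismProperty.of_isPullback (P := @Flat) (Limits.pullback_lift_diagonal_isPullback u g) inferInstance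
  infer_instance

theorem map_maximalIdeal_eq (g : X ⟶ Y) [Etale g] (x : X) :
    (IsLocalRing.maximalIdeal (Y.presheaf.stalk (g x))).map (g.stalkMap x).hom =
      IsLocalRing.maximalIdeal (X.presheaf.stalk x) := by
  letI := (g.stalkMap x).hom.toAlgebra
  haveI : IsLocalHom (algebraMap (Y.presheaf.stalk (g x)) (X.presheaf.stalk x)) :=
    inferInstanceAs <| IsLocalHom (g.stalkMap x).hom
  haveI : Algebra.EssFiniteType (Y.presheaf.stalk (g x)) (X.presheaf.stalk x) := by
    rw [← RingHom.essFiniteType_algebraMap, RingHom.algebraMap_toAlgebra]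
    exact LocallyOfFiniteType.stalkMap g x
  haveI : Algebra.FormallyUnramified (Y.presheaf.stalk (g x)) (X.presheaf.stalk x) := by
    rw [← RingHom.formallyUnramified_algebraMap, RingHom.algebraMap_toAlgebra]
    exact AlgebraicGeometry.FormallyUnramified.stalkMap g x
  exact Algebra.FormallyUnramified.map_maximalIdeal

theorem stalkMap_injective (g : X ⟶ Y) [Flat g] (x : X) : Function.Injective (g.stalkMap x).hom := by
  letI := (g.stalkMap x).hom.toAlgebra
  haveI : IsLocalHom (algebraMap (Y.presheaf.stalk (g x)) (X.presheaf.stalk x)) :=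
    inferInstanceAs <| IsLocalHom (g.stalkMap x).hom
  haveI : Module.Flat (Y.presheaf.stalk (g x)) (X.presheaf.stalk x) := Flat.stalkMap g x
  haveI : Module.FaithfullyFlat (Y.presheaf.stalk (g x)) (X.presheaf.stalk x) :=
    Module.FaithfullyFlat.of_flat_of_isLocalHom
  exact FaithfulSMul.algebraMap_injective (Y.presheaf.stalk (g x)) (X.presheaf.stalk x)

theorem flatOver_struct (g : X ⟶ Y) [Flat g] : FlatMod.IsFlatOver g (Coh.structureModule X) :=
  Groth.Agent.SchDense.isFlatOver_unit g

theorem ass_of_etale [IsLocallyNoetherian Y] (g : X ⟶ Y) [Etale g] {x : X}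
    (h : Curv2.IsAssPoint (Coh.structureModule Y) (g x)) : Curv2.IsAssPoint (Coh.structureModule X) x := by
  haveI : IsLocallyNoetherian X := LocallyOfFiniteType.isLocallyNoetherian g
  rw [ass_struct_iff] at h ⊢
  rw [isAssociatedPrime_iff_exists_injective_linearMap] at h
  obtain ⟨hp, φ, hφ⟩ := h
  set a := φ (Ideal.Quotient.mk _ 1)
  have hne : a ≠ 0 := fun e => (IsLocalRing.maximalIdeal.isMaximal _).ne_top (Ideal.eq_top_iff_one _ |>.2
    (Ideal.Quotient.eq_zero_iff_mem.1 (hφ (e.trans (map_zero φ).symm))))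
  have hann : ∀ c ∈ IsLocalRing.maximalIdeal (Y.presheaf.stalk (g x)), c * a = 0 := fun c hc => by
    rw [← smul_eq_mul, ← map_smul, show c • (Ideal.Quotient.mk (IsLocalRing.maximalIdeal
      (Y.presheaf.stalk (g x))) 1) = 0 from ?_, map_zero]
    rw [Algebra.smul_def, map_one, mul_one]
    exact Ideal.Quotient.eq_zero_iff_mem.2 hc
  let b := (g.stalkMap x).hom a
  have hb : b ≠ 0 := fun e => hne (stalkMap_injective g x (e.trans (map_zero _).symm))
  have hle : IsLocalRing.maximalIdeal (X.presheaf.stalk x) ≤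
      LinearMap.ker (LinearMap.toSpanSingleton (X.presheaf.stalk x) (X.presheaf.stalk x) b) := by
    rw [← map_maximalIdeal_eq g x, Ideal.map_le_iff_le_comap]
    intro c hc
    rw [Ideal.mem_comap, LinearMap.mem_ker, LinearMap.toSpanSingleton_apply, smul_eq_mul, ← map_mul,
      hann c hc, map_zero]
  have heq : LinearMap.ker (LinearMap.toSpanSingleton (X.presheaf.stalk x) (X.presheaf.stalk x) b) =
      IsLocalRing.maximalIdeal (X.presheaf.stalk x) :=
    ((IsLocalRing.maximalIdeal.isMaximal _).eq_of_le (fun e => hb (by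
      have h1 : (1 : X.presheaf.stalk x) ∈ LinearMap.ker (LinearMap.toSpanSingleton _ _ b) := by
        rw [e]; trivial
      rwa [LinearMap.mem_ker, LinearMap.toSpanSingleton_apply, one_smul] at h1)) hle).symm
  rw [IsAssociatedPrime]
  refine ⟨(IsLocalRing.maximalIdeal.isMaximal _).isPrime, b, ?_⟩
  have hcol : Submodule.colon (⊥ : Submodule (X.presheaf.stalk x) (X.presheaf.stalk x)) {b} =
      IsLocalRing.maximalIdeal (X.presheaf.stalk x) := by
    rw [← heq]
    ext c
    simp [Submodule.mem_colon_singleton]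
  rw [hcol, (IsLocalRing.maximalIdeal.isMaximal _).isPrime.radical]

theorem ass_etale_iff [IsLocallyNoetherian Y] (g : X ⟶ Y) [Etale g] (x : X) :
    Curv2.IsAssPoint (Coh.structureModule X) x ↔ Curv2.IsAssPoint (Coh.structureModule Y) (g x) :=
  ⟨map_ass_of_flatOver g _ (flatOver_struct g), ass_of_etale g⟩

/-- For a flat morphism to a locally Noetherian scheme, scheme-theoretic dominance means that the image
contains the associated points. -/
theorem dominant_iff [IsLocallyNoetherian Y] (u : X ⟶ Y) [Flat u] :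
    IsSchemeTheoreticallyDominant u ↔
      {y | Curv2.IsAssPoint (Coh.structureModule Y) y} ⊆ Set.range u.base := by
  constructor
  · intro h y hy
    by_contra hr
    let V : Y.Opens := ⟨(closure {y})ᶜ, isClosed_closure.isOpen_compl⟩
    have hV : ∀ x, u.base x ∈ V := fun x hx => by
      obtain ⟨x', -, hx'⟩ := (AlgebraicGeometry.Flat.generalizingMap u)
        (specializes_iff_mem_closure.2 hx)
      exact hr ⟨x', hx'⟩
    have hle : V.ι.ker ≤ u.ker := by
      rw [Scheme.Hom.ker, Scheme.Hom.ker, Scheme.IdealSheafData.le_ofIdeals_iff]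
      intro U s hs
      rw [← Scheme.Hom.ker, Scheme.Hom.ker_apply, RingHom.mem_ker, Scheme.Opens.ι_app] at hs
      rw [RingHom.mem_ker]
      have hU : u ⁻¹ᵁ U.1 ≤ u ⁻¹ᵁ (V.ι ''ᵁ (V.ι ⁻¹ᵁ U.1)) := fun x hx => by
        refine ⟨⟨u.base x, hV x⟩, hx, rfl⟩
      have e : u.app U.1 s = u.appLE _ (u ⁻¹ᵁ U.1) hU
          (Y.presheaf.map (homOfLE (x := V.ι ''ᵁ (V.ι ⁻¹ᵁ U.1)) (y := U.1)
            (by rintro _ ⟨z, hz, rfl⟩; exact hz)).op s) := by
        rw [← CommRingCat.comp_apply, Scheme.Hom.map_appLE, Scheme.Hom.appLE]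
        simp
      rw [e]
      rw [show Y.presheaf.map (homOfLE (x := V.ι ''ᵁ (V.ι ⁻¹ᵁ U.1)) (y := U.1)
            (by rintro _ ⟨z, hz, rfl⟩; exact hz)).op s = 0 from hs, map_zero]
    rw [h.ker_eq_bot, le_bot_iff] at hle
    have hsub : {x | Curv2.IsAssPoint (Coh.structureModule Y) x} ⊆ (V : Set Y) := by
      refine (ass_subset_iff (isQCoh_unit Y) V).2 fun W hW s hs => ?_
      have h0 : V.ι.ker.ideal ⟨W, hW⟩ = ⊥ := by rw [hle]; rfl
      rw [Scheme.Hom.ker_apply] at h0
      have hmem : (show Γ(Y, W) from s) ∈ RingHom.ker (V.ι.app W).hom := by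
        rw [RingHom.mem_ker, Scheme.Opens.ι_app]
        have hl : V.ι ''ᵁ (V.ι ⁻¹ᵁ W) ≤ W ⊓ V := by
          rintro _ ⟨z, hz, rfl⟩; exact ⟨hz, z.2⟩
        have h2 : resO Y (inf_le_left : W ⊓ V ≤ W) (show Γ(Y, W) from s) = 0 := hs
        refine Eq.trans (resO_resO (X := Y) hl (inf_le_left : W ⊓ V ≤ W) _).symm ?_
        rw [h2, map_zero]
      rw [h0] at hmem
      exact hmem
    exact hsub hy (subset_closure (Set.mem_singleton y))
  · intro h
    refine ⟨eq_bot_iff.2 fun U s hs => ?_⟩
    have hs0 := u.ideal_ker_le U hs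
    rw [RingHom.mem_ker] at hs0
    rw [Scheme.IdealSheafData.ideal_bot, Pi.bot_apply, Ideal.mem_bot]
    refine eq_zero_of_forall (F := Coh.structureModule Y) (isQCoh_unit Y) s fun y hy hw => ?_
    obtain ⟨x, rfl⟩ := h ((isAssPoint_iff _ y).2 hw)
    have h1 : (u.stalkMap x).hom (Y.presheaf.germ U.1 _ hy s) = 0 := by
      have := Scheme.Hom.germ_stalkMap_apply u U.1 x hy s
      rw [this, hs0, map_zero]
    have h2 : Y.presheaf.germ U.1 _ hy s = 0 := stalkMap_injective u x (h1.trans (map_zero _).symm)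
    obtain ⟨W, hyW, i, j, he⟩ := Y.presheaf.germ_eq _ hy hy s 0 (h2.trans (map_zero _).symm)
    rw [← mgerm_res (Coh.structureModule Y) i.le hyW s,
      show QC.res (Coh.structureModule Y) i.le s = 0 from he.trans (map_zero _), map_zero]

theorem isMaxPt_iff (f : X ⟶ Y) [IsIntegralHom f] [UniversallyInjective f] [Surjective f] (x : X) :
    (∀ y, y ⤳ x → y = x) ↔ (∀ y, y ⤳ f.base x → y = f.base x) := by
  have hhom : IsHomeomorph f.base :=
    isHomeomorph_iff_continuous_isClosedMap_bijective.2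
      ⟨f.continuous, f.isClosedMap, f.injective, f.surjective⟩
  constructor
  · intro h y hy
    obtain ⟨x', rfl⟩ := f.surjective y
    rw [h x' (hhom.isEmbedding.isInducing.specializes_iff.1 hy)]
  · intro h y hy
    exact f.injective (h _ (hy.map f.continuous))

theorem main {E S S' E' X' : Scheme.{u}} [IsLocallyNoetherian S] [IsLocallyNoetherian S'] (f : S' ⟶ S)
    [IsIntegralHom f] [UniversallyInjective f] [Surjective f]
    (hemb : ∀ s' : S', (s' ∈ AssSch.Ass (Coh.structureModule S') ∧
        ∃ t ∈ AssSch.Ass (Coh.structureModule S'), t ⤳ s' ∧ t ≠ s') ↔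
      (f.base s' ∈ AssSch.Ass (Coh.structureModule S) ∧
        ∃ t ∈ AssSch.Ass (Coh.structureModule S), t ⤳ f.base s' ∧ t ≠ f.base s'))
    (a : X ⟶ S) [Flat a] (g : E ⟶ S) [Etale g] (u : X ⟶ E) (hu : u ≫ g = a) (g' : E' ⟶ S') (φ : E' ⟶ E)
    (hE : IsPullback φ g' g f) (u' : X' ⟶ E') (ψ : X' ⟶ X) (hX : IsPullback ψ u' u φ) :
    IsSchemeTheoreticallyDominant u ↔ IsSchemeTheoreticallyDominant u' := by
  subst hu
  haveI : Etale g' := MorphismProperty.of_isPullback (P := @Etale) hE ‹_›
  haveI : IsLocallyNoetherian E := LocallyOfFiniteType.isLocallyNoetherian g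
  haveI : IsLocallyNoetherian E' := LocallyOfFiniteType.isLocallyNoetherian g'
  haveI : Flat u := flat_of_comp_etale u g
  haveI : Flat u' := MorphismProperty.of_isPullback (P := @Flat) hX ‹_›
  haveI : Surjective φ := MorphismProperty.of_isPullback (P := @Surjective) hE.flip ‹_›
  have hpoint : ∀ {Z : Scheme.{u}} (z : Z), Curv2.IsAssPoint (Coh.structureModule Z) z ↔
      ((z ∈ AssSch.Ass (Coh.structureModule Z) ∧
        ∃ t ∈ AssSch.Ass (Coh.structureModule Z), t ⤳ z ∧ t ≠ z) ∨ ∀ y : Z, y ⤳ z → y = z) := by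
    intro Z z
    constructor
    · intro hz
      by_cases hmin : ∀ y, Curv2.IsAssPoint (Coh.structureModule Z) y → y ⤳ z → y = z
      · exact Or.inr fun y hy =>
          ((ass_minimal_iff (isQCoh_unit Z) z).1 ⟨hz, hmin⟩).2 y (nontrivial_struct y) hy
      · push Not at hmin
        obtain ⟨t, ht, htz, hne⟩ := hmin
        exact Or.inl ⟨hz, t, ht, htz, hne⟩
    · rintro (⟨hz, -⟩ | hmax)
      · exact hz
      · exact ((ass_minimal_iff (isQCoh_unit Z) z).2 ⟨nontrivial_struct z, fun y _ hy => hmax y hy⟩).1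
  have hf : ∀ s', Curv2.IsAssPoint (Coh.structureModule S') s' ↔
      Curv2.IsAssPoint (Coh.structureModule S) (f.base s') := fun s' => by
    rw [hpoint, hpoint, hemb s', isMaxPt_iff f s']
  have hφ : ∀ e' : E', Curv2.IsAssPoint (Coh.structureModule E') e' ↔
      Curv2.IsAssPoint (Coh.structureModule E) (φ.base e') := fun e' => by
    rw [ass_etale_iff g', ass_etale_iff g, hf]
    rw [← Scheme.Hom.comp_apply, ← Scheme.Hom.comp_apply, hE.w]
  rw [dominant_iff u, dominant_iff u']
  constructor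
  · intro h e' he'
    obtain ⟨x, hx⟩ := h ((hφ e').1 he')
    obtain ⟨z, -, hz⟩ := Scheme.Pullback.exists_preimage_pullback x e' hx
    obtain ⟨x', hx'⟩ : ∃ x', u'.base x' = e' := ⟨hX.isoPullback.inv.base z, by
      rw [← Scheme.Hom.comp_apply, hX.isoPullback_inv_snd, hz]⟩
    exact ⟨x', hx'⟩
  · intro h e he
    obtain ⟨e', rfl⟩ := φ.surjective e
    obtain ⟨x', hx'⟩ := h ((hφ e').2 he)
    exact ⟨ψ.base x', by rw [← Scheme.Hom.comp_apply, hX.w, Scheme.Hom.comp_apply, hx']⟩

end Groth.Agent.SchDomRad
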